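import Cfsg.Agent.H450.S8.Core
import Cfsg.Agent.H424.DegTools
import Cfsg.Agent.H498.SporOut
import Cfsg.Agent.H26.Ore.Fi24Deg
import Cfsg.Agent.H713.SB.FiSeven
import Cfsg.Agent.S2081

/-!
# S4908: the degrees of `Fi₂₄'`, numerically (helper871)

* `num` : the degrees of `Fi₂₄'` divide the order, with their residues modulo 17, 23, 29;
* `index_le` : at most one outer automorphism class.
-/

set_option autoImplicit false

namespace Cfsg.Agent.H871.S8.Fi24

open Cfsg Cfsg.Agent.H450.S8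

universe v

/-- the residues -/
def ok : ℕ → Bool := okDeg 1 [(29, 14), (23, 11), (17, 16)]

theorem ok_of {d : ℕ} (h1 : 1 ≤ d) (h29 : d % 29 = 0 ∨ d % 29 = 1 ∨ d % 29 = 28 ∨ d % 29 = 14 ∨ d % 29 = 15)
    (h23 : d % 23 = 0 ∨ d % 23 = 1 ∨ d % 23 = 22 ∨ d % 23 = 11 ∨ d % 23 = 12)
    (h17 : d % 17 = 0 ∨ d % 17 = 1 ∨ d % 17 = 16) : ok d = true := by
  unfold ok okDeg
  rw [Bool.and_eq_true]
  refine ⟨?_, ?_⟩
  · rw [Bool.or_eq_true, decide_eq_true_eq]
    exact Or.inr h1
  · simp only [List.all_cons, List.all_nil, Bool.and_true, Bool.and_eq_true]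
    refine ⟨?_, ?_, ?_⟩
    · rcases h29 with h | h | h | h | h <;> rw [h] <;> rfl
    · rcases h23 with h | h | h | h | h <;> rw [h] <;> rfl
    · rcases h17 with h | h | h <;> rw [h] <;> rfl

theorem num_model : Num (charDegrees Spor.Fi24') 1255205709190661721292800 ok where
  pos := by norm_num
  dvd hd := by
    have : Finite Spor.Fi24' := Nat.finite_of_card_ne_zero (by rw [H26.Ore.Fi24Deg.card_F']; norm_num)
    rw [← H26.Ore.Fi24Deg.card_F']
    exact H424.DegTools.dvd_card hd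
  ok hd := by
    have h0 := H424.DegTools.pos_of_mem hd
    obtain ⟨χ, rfl⟩ := hd
    exact ok_of h0 (H713.SB.FiSeven.res29 χ) (H26.Ore.Fi24Deg.res23 χ) (H26.Ore.Fi24Deg.res17 χ)

/-- **The numerical description of the degrees.** -/
theorem num {X : Type v} [Group X] (hX : Spor.IsoFi24' X) : Num (charDegrees X) 1255205709190661721292800 ok := by
  obtain ⟨e⟩ := hX
  rw [H424.DegTools.charDegrees_congr e]
  exact num_model

theorem index_le {X : Type v} [Group X] (hX : Spor.IsoFi24' X) : (MulAut.conj : X →* MulAut X).range.index ≤ 2 := by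
  obtain ⟨e⟩ := hX
  rw [H498.SporOut.index_congr e]
  exact Cfsg.Agent.S2081.result.le

end Cfsg.Agent.H871.S8.Fi24
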