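import Cfsg.Agent.H450.S8.Soc2
import Cfsg.Agent.H871.S8.Fi24Num

/-!
# S4908: the row SOC2 of `Fi₂₄'` (helper871, engine of helper450)
-/

set_option autoImplicit false

namespace Cfsg.Agent.H871.S8.Fi24

open Cfsg Cfsg.Agent.H450.S8

universe u v

theorem test : soc2Test (2 * 1255205709190661721292800) (P2 1255205709190661721292800 ok)
    [(2, 22), (3, 16), (5, 2), (7, 3), (11, 1), (13, 1), (17, 1), (23, 1), (29, 1)] = true := by
  decide +kernel

/-- **SOC2 of S4908 for `Fi₂₄'`** -/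
theorem soc2 {X : Type v} [Group X] [Finite X] (hX : Spor.IsoFi24' X) {D : Set ℕ} (hD : H704.S8.Deg 2 X D) :
    H704.S8.Soc2.{u} D :=
  soc2_two (num hX) (index_le hX) (by simp; norm_num) test hD

end Cfsg.Agent.H871.S8.Fi24
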