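import Cfsg.Agent.H845.HNMult
import Cfsg.Agent.H997.OutHN
import Cfsg.Agent.H175.Ore.HNDeg
import Cfsg.Agent.H180.PSD.Lift
import Cfsg.Agent.H424.DegTools
import Cfsg.Agent.H498.SporOut
import Cfsg.Agent.S2082

/-!
# S4908, `HN`, OUT: `266 ∈ cd(Aut HN)`, `266 ∉ cd(HN)` (helper871)

The automorphism `x ↦ x, y ↦ y, z ↦ z x², t ↦ t²` (helper997) sends `y z` to `y z x²`; in the 133-dimensional
representation modulo 31 these elements have the traces `6` and `25` (`± √5`), so the complex character of degree 133 is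
not invariant.
-/

set_option autoImplicit false
set_option maxRecDepth 10000

open Cfsg Subgroup

namespace Cfsg.Agent.H871.S8.HNOut

open Cfsg.Agent.Lib.PackMat Cfsg.Agent.Lib.PackMatGroup Cfsg.Agent.HN.RepData Cfsg.Agent.HN.Trace
open Cfsg.Agent.HN.Rep (L LG gens rho rho_word good one_lt codes)
open Cfsg.Agent.HN.Pres (hx hy hz ht)
open Cfsg.Agent.CpAutHN.Tr (tr)
open Cfsg.Agent.Characters.Core

universe v

theorem t1 : checkTr C (cw L [2, 4]) 0 133 2114 = true := by decide +kernel
theorem t2 : checkTr C (cw L [2, 4, 0, 0]) 0 133 2040 = true := by decide +kernel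

theorem tr_w : tr (hy * hz) = 6 := by
  have h : rho (hy * hz) = evG LG [2, 4] := by
    rw [← rho_word]
    congr 1
  unfold tr
  rw [h, trace_of_chunks good one_lt codes (by decide) [(133, 2114)] (by decide) ⟨t1, trivial⟩]
  decide

theorem tr_w' : tr (hy * (hz * hx ^ 2)) = 25 := by
  have h : rho (hy * (hz * hx ^ 2)) = evG LG [2, 4, 0, 0] := by
    rw [← rho_word, pow_two]
    congr 1
  unfold tr
  rw [h, trace_of_chunks good one_lt codes (by decide) [(133, 2040)] (by decide) ⟨t2, trivial⟩]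
  decide

/-- the character of degree 133 separates `y z` and `y z x²` -/
theorem exists_chi : ∃ χ : IrrCharacter Spor.HN, (χ : Spor.HN → ℂ) 1 = (133 : ℕ) ∧
    (χ : Spor.HN → ℂ) (hy * hz) ≠ (χ : Spor.HN → ℂ) (hy * (hz * hx ^ 2)) := by
  have hfin : Finite Spor.HN := KFacts.HN.finite_HN
  obtain ⟨ρ, hρ, hc⟩ := Cfsg.Agent.H845.HNMult.exists_rep
  refine ⟨⟨ρ.character, 133, ρ, hρ, rfl⟩, ?_, ?_⟩
  · show ρ.character 1 = _
    rw [Representation.char_one, Module.finrank_fin_fun]
  intro heq
  change ρ.character (hy * hz) = ρ.character (hy * (hz * hx ^ 2)) at heq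
  have h6 := tr_w
  have h25 := tr_w'
  generalize hy * hz = w at heq h6
  generalize hy * (hz * hx ^ 2) = w' at heq h25
  obtain ⟨m, -, hm⟩ := H845.DefZero.average ρ (zpowers w)
  rw [H845.DefZero.sum_zpowers] at hm
  obtain ⟨n, hn⟩ : ∃ n, orderOf w = n + 1 := ⟨orderOf w - 1, by have := orderOf_pos w; omega⟩
  have hs : ∑ k ∈ Finset.range n, ρ.character (w ^ (k + 2)) + ρ.character w =
      ((Nat.card (zpowers w) * m : ℕ) : ℂ) := by
    have h1 : ∑ k ∈ Finset.range (n + 1), ρ.character (w ^ (k + 1)) =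
        ∑ k ∈ Finset.range n, ρ.character (w ^ (k + 2)) + ρ.character w := by
      rw [Finset.sum_range_succ', zero_add, pow_one]
    have h2 : ∑ k ∈ Finset.range (n + 2), ρ.character (w ^ k) =
        ∑ k ∈ Finset.range (n + 1), ρ.character (w ^ (k + 1)) + ρ.character (w ^ 0) :=
      Finset.sum_range_succ' _ _
    have h3 : ∑ k ∈ Finset.range (n + 2), ρ.character (w ^ k) =
        ∑ k ∈ Finset.range (n + 1), ρ.character (w ^ k) + ρ.character (w ^ (n + 1)) :=
      Finset.sum_range_succ _ _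
    have h4 : w ^ (n + 1) = w ^ 0 := by rw [← hn, pow_orderOf_eq_one, pow_zero]
    rw [h4] at h3
    rw [← h1, ← hm, hn]
    exact add_right_cancel (h2.symm.trans h3)
  have key : ∀ v, ρ.character v = ρ.character w →
      ((Multiset.range n).map fun k => tr (w ^ (k + 2))).sum + tr v = (((Nat.card (zpowers w) * m : ℕ) : ℤ) : ZMod 31) := by
    intro v hv
    have h1 := hc (v ::ₘ (Multiset.range n).map fun k => w ^ (k + 2)) ((Nat.card (zpowers w) * m : ℕ) : ℤ) (by
      rw [Multiset.map_cons, Multiset.sum_cons, Multiset.map_map, hv, add_comm]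
      push_cast
      rw [← Nat.cast_mul, ← hs]
      rfl)
    rw [Multiset.map_cons, Multiset.sum_cons, Multiset.map_map, add_comm] at h1
    exact h1
  have h1 := (key w rfl).trans (key w' heq.symm).symm
  have h2 := add_left_cancel h1
  rw [h6, h25] at h2
  revert h2
  decide

theorem exists_aut : ∃ α : MulAut Spor.HN, α (hy * hz) = hy * (hz * hx ^ 2) := by
  have hs : IsSimpleGroup Spor.HN := Cfsg.Agent.S1701.result.1
  have hfin : Finite Spor.HN := KFacts.HN.finite_HN
  obtain ⟨θ, h1, h2, h3, -⟩ := H997.OutHN.exists_end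
  have hx2 : hx ^ 2 ≠ 1 := by
    rw [← H997.OutHN.ψ_τ]
    intro h
    exact KFacts.HN.emb.ne (KFacts.HN.emb.inj (h.trans (map_one _).symm))
  have hinj : Function.Injective θ := by
    rw [← MonoidHom.ker_eq_bot_iff]
    rcases IsSimpleGroup.eq_bot_or_eq_top_of_normal θ.ker inferInstance with h | h
    · exact h
    · exfalso
      have h4 : hx ∈ θ.ker := by rw [h]; exact Subgroup.mem_top _
      rw [MonoidHom.mem_ker, h1] at h4
      exact hx2 (by rw [h4, one_pow])
  refine ⟨MulEquiv.ofBijective θ (Finite.injective_iff_bijective.1 hinj), ?_⟩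
  show θ (hy * hz) = _
  rw [map_mul, h2, h3]

/-- **`266` is a degree of `Aut HN`.** -/
theorem mem_266 : 266 ∈ charDegrees (MulAut Spor.HN) := by
  have hs : IsSimpleGroup Spor.HN := Cfsg.Agent.S1701.result.1
  have hfin : Finite Spor.HN := KFacts.HN.finite_HN
  have : Finite (MulAut Spor.HN) := Finite.of_injective _ (DFunLike.coe_injective (F := MulAut Spor.HN))
  obtain ⟨χ, h133, hne⟩ := exists_chi
  obtain ⟨α, hα⟩ := exists_aut
  set N : Subgroup (MulAut Spor.HN) := (MulAut.conj : Spor.HN →* MulAut Spor.HN).range with hN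
  have hidx : N.index = 2 := Cfsg.Agent.S2082.result
  have hnorm : N.Normal := Subgroup.normal_of_index_eq_two hidx
  have hinj : Function.Injective (MulAut.conj : Spor.HN →* MulAut Spor.HN) := by
    rw [← MonoidHom.ker_eq_bot_iff]
    rcases IsSimpleGroup.eq_bot_or_eq_top_of_normal (MulAut.conj : Spor.HN →* MulAut Spor.HN).ker inferInstance with h | h
    · exact h
    · exfalso
      refine hne ?_
      have h1 : ∀ g : Spor.HN, MulAut.conj g = 1 := fun g => MonoidHom.mem_ker.1 (by rw [h]; exact Subgroup.mem_top _)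
      have h2 : N = ⊥ := by
        rw [eq_bot_iff]
        rintro _ ⟨g, rfl⟩
        rw [mem_bot]
        exact h1 g
      have h3 : ∀ a b : Spor.HN, a * b = b * a := by
        intro a b
        have h4 := congrArg (fun f : MulAut Spor.HN => f b) (h1 a)
        simp only [MulAut.conj_apply, MulAut.one_apply] at h4
        exact mul_inv_eq_iff_eq_mul.1 h4
      exact absurd ⟨⟨h3⟩⟩ Cfsg.Agent.H175.Ore.HNDeg.not_comm
  let e : Spor.HN ≃* N := MonoidHom.ofInjective hinj
  have he : ∀ g, ((e g : N) : MulAut Spor.HN) = MulAut.conj g := fun g => rfl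
  have hθ : IsIrrCharacter N ((χ : Spor.HN → ℂ) ∘ e.symm.toMonoidHom) :=
    isIrr_comp e.symm.toMonoidHom e.symm.surjective χ.2
  obtain ⟨ψ, hψ, h | ⟨h, -⟩⟩ := H180.PSD.index_two' N hidx hθ
  · exfalso
    apply hne
    have h1 : ∀ g, ψ (MulAut.conj g) = (χ : Spor.HN → ℂ) g := by
      intro g
      rw [← he g, h (e g)]
      show (χ : Spor.HN → ℂ) (e.symm (e g)) = _
      rw [MulEquiv.symm_apply_apply]
    have h2 : MulAut.conj (hy * (hz * hx ^ 2)) = α * MulAut.conj (hy * hz) * α⁻¹ := by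
      rw [← hα]
      ext g
      simp [MulAut.conj_apply, MulAut.mul_apply]
    rw [← h1, ← h1, h2]
    exact (isIrr_isClassFunction hψ _ _).symm
  · refine ⟨⟨ψ, hψ⟩, ?_⟩
    refine Blocks.Basic.charDegree_of_eq ?_
    show ψ 1 = _
    rw [h]
    show 2 * (χ : Spor.HN → ℂ) (e.symm 1) = _
    rw [map_one, h133]
    norm_num

theorem not_mem_266 : 266 ∉ charDegrees Spor.HN := by
  rintro ⟨χ, hχ⟩
  by_cases h1 : (χ : Spor.HN → ℂ) = 1
  · rw [h1] at hχ
    have h2 : charDegree (1 : Spor.HN → ℂ) = 1 := Blocks.Basic.charDegree_of_eq (by simp)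
    omega
  · rcases Cfsg.Agent.H175.Ore.HNDeg.deg_cases h1 with h | h | h <;> omega

/-- **OUT for `HN`** -/
theorem out {X : Type v} [Group X] (h : Spor.IsoHN X) : charDegrees X ≠ charDegrees (MulAut X) := by
  obtain ⟨e⟩ := h
  rw [H424.DegTools.charDegrees_congr e, H424.DegTools.charDegrees_congr (MulAut.congr e)]
  intro hcon
  exact not_mem_266 (hcon ▸ mem_266)

theorem index_le {X : Type v} [Group X] (h : Spor.IsoHN X) : (MulAut.conj : X →* MulAut X).range.index ≤ 2 := by
  obtain ⟨e⟩ := h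
  rw [H498.SporOut.index_congr e]
  exact Cfsg.Agent.S2082.result.le

end Cfsg.Agent.H871.S8.HNOut
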